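import Groth.Agent.L13.InvHilb.HJ

/-!
The Wronskian of the remainder sequence and a multiplicity vector of a Hirzebruch–Jung chain.
-/

set_option autoImplicit false

namespace Groth.L14.HJFrac

open Groth.L13.InvHilb

theorem wronskian {l : ℕ} (hl : 1 ≤ l) {b : ℕ → ℤ} (hb : ∀ i, 1 ≤ i → i ≤ l → 2 ≤ b i)
    {n r : ℕ} (hr : 0 < r) (hrn : r < n) (hcop : Nat.Coprime r n)
    (hhj : (n : ℚ) / r = _root_.HJFrac.hjVal ((List.range l).map fun i => b (i + 1)))
    {μ : ℕ → ℤ} (hsys : ∀ i, 1 ≤ i → i ≤ l → b i * μ i = μ (i - 1) + μ (i + 1)) :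
    ∃ ρ : ℕ → ℤ, ρ 0 = n ∧ ρ 1 = r ∧ ρ (l + 1) = 0 ∧
      ∀ i, i ≤ l → ρ i * μ (i + 1) - ρ (i + 1) * μ i = μ (l + 1) := by
  set c := (List.range l).map fun i => b (i + 1) with hcdef
  have hlen : c.length = l := by simp [hcdef]
  have hget : ∀ i, i < l → c.getD i 0 = b (i + 1) := fun i hi => by
    rw [List.getD_eq_getElem _ _ (by omega : i < c.length)]
    simp [hcdef]
  have hc : ∀ x ∈ c, (2 : ℤ) ≤ x := by
    intro x hx
    simp only [hcdef, List.mem_map, List.mem_range] at hx
    obtain ⟨i, hi, rfl⟩ := hx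
    exact hb (i + 1) (by omega) (by omega)
  have hn : (0 : ℤ) < n := by omega
  have hr' : (0 : ℤ) < r := by omega
  have hv : _root_.HJFrac.hjVal c = ((n : ℤ) : ℚ) / ((r : ℤ) : ℚ) := by rw [← hhj]; push_cast; rfl
  have hlast := rem_last hc hn hr' hv
  rw [hlen] at hlast
  have h1 := rem_length hc hn hr' hv (Nat.isCoprime_iff_coprime.mpr hcop.symm)
  rw [hlen] at h1
  refine ⟨rem n r c, rem_zero, rem_one, hlast, ?_⟩
  suffices h : ∀ j i, i + j = l → rem n r c i * μ (i + 1) - rem n r c (i + 1) * μ i = μ (l + 1) from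
    fun i hi => h (l - i) i (by omega)
  intro j
  induction j with
  | zero =>
    intro i hi
    obtain rfl : i = l := by omega
    rw [h1, hlast]; ring
  | succ j ih =>
    intro i hi
    have h := ih (i + 1) (by omega)
    have hs := hsys (i + 1) (by omega) (by omega)
    rw [Nat.add_sub_cancel] at hs
    rw [rem_step, hget i (by omega)] at h
    linear_combination h + rem n r c (i + 1) * hs

end Groth.L14.HJFrac
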